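import Groth.Agent.H9A1.Surj
import Groth.Agent.H23.SetupLFT
import Groth.Agent.H23.RatEquivPull
import Mathlib.AlgebraicGeometry.AffineSpace
import Mathlib.RingTheory.KrullDimension.Polynomial
import Mathlib.RingTheory.PrincipalIdealDomain

/-! Cycles on affine space over a field are rationally equivalent to zero below the top dimension. -/

set_option autoImplicit false
set_option linter.style.haveILetI false
set_option backward.isDefEq.respectTransparency false
set_option backward.isDefEq.respectTransparency.types false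

universe u

open AlgebraicGeometry CategoryTheory TopologicalSpace

namespace Groth.Agent.H9A1

open Groth.Agent H23.RatOn

/-- Below the dimension of the generic point every cycle is rationally trivial. -/
def Triv (W : Scheme.{u}) [IsIntegral W] : Prop :=
  ∀ (δ : W → ℤ), Cyc.IsDimFun W δ → ∀ e < δ (genericPoint W), ∀ α ∈ Cyc.Zk W δ e, Cyc.RatEquivZero δ e α

/-- The spectrum of a polynomial ring over a field. -/
noncomputable abbrev Aff (K : Type u) [Field K] (σ : Type u) : Scheme.{u} :=
  Spec (CommRingCat.of (MvPolynomial σ K))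

theorem map_genericPoint_iso {W W' : Scheme.{u}} [IsIntegral W] [IsIntegral W'] (e : W ≅ W') :
    e.hom (genericPoint W) = genericPoint W' :=
  ((genericPoint_spec W).image e.hom.continuous).eq (by
    rw [Set.image_univ, show Set.range e.hom = Set.univ from e.hom.surjective.range_eq, closure_univ]
    exact genericPoint_spec W')

theorem triv_of_iso {W W' : Scheme.{u}} [IsIntegral W] [IsIntegral W'] [IsLocallyNoetherian W] (e : W ≅ W')
    (h : Triv W) : Triv W' := by
  intro δ hd k hk α hα
  haveI : IsLocallyNoetherian W' := isLocallyNoetherian_of_isOpenImmersion e.inv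
  obtain ⟨β, hβ⟩ : ∃ β : AlgebraicCycle W ℤ, ∀ w, β w = α (e.hom w) :=
    ⟨CycLib.restrictCycle e.hom e.hom.isOpenEmbedding.injective α, fun w => rfl⟩
  have hd' : Cyc.IsDimFun W fun w => δ (e.hom w) := fun a b hab hne => by
    obtain ⟨h1, h2⟩ := hd _ _ (hab.map e.hom.continuous) (e.hom.isOpenEmbedding.injective.ne hne)
    refine ⟨h1, fun himm => h2 fun z hz hz' => ?_⟩
    obtain ⟨v, rfl⟩ := e.hom.surjective z
    exact (himm v (e.hom.isOpenEmbedding.isInducing.specializes_iff.1 hz)
      (e.hom.isOpenEmbedding.isInducing.specializes_iff.1 hz')).imp (congrArg _) (congrArg _)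
  have h0 := h _ hd' k (show k < δ (e.hom (genericPoint W)) by rw [map_genericPoint_iso e]; exact hk) β
    fun w hw => (hβ w).trans (hα _ hw)
  exact ratEquivZero (push e.hom (T := Set.univ) (of_ratEquivZero h0) (G' := ⇑α) (fun w => (hβ w).symm)
    fun x hx => absurd (e.hom.surjective x) hx)

theorem dimFun_unique {W : Scheme.{u}} [IsIntegral W] [IsLocallyNoetherian W] {δ δ' : W → ℤ}
    (hd : Cyc.IsDimFun W δ) (hd' : Cyc.IsDimFun W δ') (h : δ (genericPoint W) = δ' (genericPoint W)) (z : W) :
    δ z = δ' z := by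
  have h1 := CycLib.cd_eq hd (genericPoint_specializes z)
  have h2 := CycLib.cd_eq hd' (genericPoint_specializes z)
  omega

theorem triv_of_subsingleton {W : Scheme.{u}} [IsIntegral W] [Subsingleton W] : Triv W := by
  intro δ hd e he α hα
  exact ratEquivZero (T := Set.univ) (congr (zero Set.univ) fun x => hα x (by
    rw [Subsingleton.elim x (genericPoint W)]; omega))

/-- The stalk map of a ring element. -/
noncomputable abbrev tsp (R : Type u) [CommRing R] (x : Spec (CommRingCat.of R)) :
    R →+* (Spec (CommRingCat.of R)).presheaf.stalk x :=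
  (StructureSheaf.toStalk R x).hom

theorem isLocalization_tsp (R : Type u) [CommRing R] (x : Spec (CommRingCat.of R)) :
    letI := (tsp R x).toAlgebra
    IsLocalization.AtPrime ((Spec (CommRingCat.of R)).presheaf.stalk x) (x : PrimeSpectrum R).asIdeal :=
  StructureSheaf.IsLocalization.to_stalk R x

theorem specMap_tsp (R : Type u) [CommRing R] {x ξ : Spec (CommRingCat.of R)} (h : ξ ⤳ x) (r : R) :
    Cyc.specMap x ξ h (tsp R x r) = (Spec (CommRingCat.of R)).residue ξ (tsp R ξ r) := by
  have e := RingHom.congr_fun (congrArg CommRingCat.Hom.hom (StructureSheaf.toStalk_stalkSpecializes (R := R) h)) r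
  exact congrArg ((Spec (CommRingCat.of R)).residue ξ).hom e

theorem divFun_tsp (R : Type u) [CommRing R] [IsDomain R] [IsPrincipalIdealRing R]
    {δ : Spec (CommRingCat.of R) → ℤ} (hd : Cyc.IsDimFun _ δ) {η x z : Spec (CommRingCat.of R)}
    (hη : (η : PrimeSpectrum R).asIdeal = ⊥) (h : η ⤳ x) (hx : δ x + 1 = δ η) {g : R} (hg0 : g ≠ 0)
    (hg : (z : PrimeSpectrum R).asIdeal = Ideal.span {g}) :
    Cyc.divFun δ η ((Spec (CommRingCat.of R)).residue η (tsp R η g)) x = pointCycle z x := by
  classical
  haveI := isLocalization_tsp R x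
  rw [CycLib.divFun_eq δ _ h hx, ← specMap_tsp R h, pointCycle_apply]
  by_cases hgx : g ∈ (x : PrimeSpectrum R).asIdeal
  · have hzne : (z : PrimeSpectrum R).asIdeal ≠ ⊥ := by rw [hg]; simpa using hg0
    have hzx : x = z := PrimeSpectrum.ext ((IsPrime.to_maximal_ideal hzne).eq_of_le
      (PrimeSpectrum.isPrime (x : PrimeSpectrum R)).ne_top (by rw [hg]; simpa [Ideal.span_le] using hgx)).symm
    subst hzx
    rw [if_pos rfl, ← CycLib.algebraMap_locQuot_mk]
    have hne : Ideal.Quotient.mk (RingHom.ker (Cyc.specMap x η h)) (tsp R x g) ≠ 0 := by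
      rw [Ne, Ideal.Quotient.eq_zero_iff_mem, RingHom.mem_ker, specMap_tsp R h]
      intro h0
      have hmem : tsp R η g ∈ IsLocalRing.maximalIdeal _ := (IsLocalRing.residue_eq_zero_iff _).1 h0
      haveI := isLocalization_tsp R η
      letI := (tsp R η).toAlgebra
      have h1 := (IsLocalization.AtPrime.to_map_mem_maximal_iff _ (η : PrimeSpectrum R).asIdeal g).1 hmem
      rw [hη] at h1
      exact hg0 h1
    rw [CycLib.ordAt_algebraMap hd h hx hne]
    letI := (tsp R x).toAlgebra
    have hspan : Ideal.span {Ideal.Quotient.mk (RingHom.ker (Cyc.specMap x η h)) (tsp R x g)} =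
        IsLocalRing.maximalIdeal (Cyc.LocQuot x η h) := by
      rw [← IsLocalRing.map_maximalIdeal_of_surjective _ Ideal.Quotient.mk_surjective,
        ← IsLocalization.AtPrime.map_eq_maximalIdeal (x : PrimeSpectrum R).asIdeal ((Spec (CommRingCat.of R)).presheaf.stalk x),
        hg, Ideal.map_span, Ideal.map_span, Set.image_singleton, Set.image_singleton]
      rfl
    haveI : IsSimpleModule (Cyc.LocQuot x η h) (Cyc.LocQuot x η h ⧸
        Ideal.span {Ideal.Quotient.mk (RingHom.ker (Cyc.specMap x η h)) (tsp R x g)}) :=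
      isSimpleModule_iff_isCoatom.2 (Ideal.isMaximal_def.1 (hspan ▸ IsLocalRing.maximalIdeal.isMaximal _))
    rw [Ring.ord, Module.length_eq_one]
    rfl
  · have hne : x ≠ z := fun e => hgx (by rw [e, hg]; exact Ideal.mem_span_singleton_self g)
    rw [if_neg hne]
    letI := (tsp R x).toAlgebra
    exact CycLib.ordAt_eq_zero_of_isUnit hd h hx
      ((IsLocalization.AtPrime.isUnit_to_map_iff _ (x : PrimeSpectrum R).asIdeal g).2 hgx)

theorem triv_pid (R : Type u) [CommRing R] [IsDomain R] [IsPrincipalIdealRing R] :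
    Triv (Spec (CommRingCat.of R)) := by
  classical
  intro δ hd e he α hα
  let η : Spec (CommRingCat.of R) := genericPoint (Spec (CommRingCat.of R))
  have hη : ∀ x, η ⤳ x := fun x => genericPoint_specializes x
  have hηI : (η : PrimeSpectrum R).asIdeal = ⊥ := by
    have := (PrimeSpectrum.le_iff_specializes (η : PrimeSpectrum R) ⟨⊥, Ideal.isPrime_bot⟩).2 (hη _)
    exact le_bot_iff.1 this
  have hmax : ∀ x, x ≠ η → (x : PrimeSpectrum R).asIdeal.IsMaximal := fun x hx =>
    IsPrime.to_maximal_ideal fun h0 => hx (PrimeSpectrum.ext (h0.trans hηI.symm))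
  have hδ : ∀ x, x ≠ η → δ x + 1 = δ η := fun x hx => by
    refine ((hd η x (hη x) (Ne.symm hx)).2 fun z hz hz' => ?_).symm
    by_cases h : z = η
    · exact Or.inl h
    · exact Or.inr (PrimeSpectrum.ext ((hmax z h).eq_of_le (PrimeSpectrum.isPrime (x : PrimeSpectrum R)).ne_top
        ((PrimeSpectrum.le_iff_specializes (z : PrimeSpectrum R) (x : PrimeSpectrum R)).2 hz')))
  have he' : e < δ η := he
  let P := {x : Spec (CommRingCat.of R) // α x ≠ 0}
  have hPe : ∀ x : P, δ x.1 = e := fun x => not_not.1 fun h => x.2 (hα _ h)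
  have hPη : ∀ x : P, x.1 ≠ η := fun x h => by have := hPe x; rw [h] at this; omega
  choose g hg using fun x : P => (IsPrincipalIdealRing.principal (x.1 : PrimeSpectrum R).asIdeal).principal
  have hg0 : ∀ x : P, g x ≠ 0 := fun x h => hPη x (PrimeSpectrum.ext (by
    rw [hηI, hg x, h]; simp))
  have hG : ∀ x : P, ZeroOn δ e (Set.univ : Set (Spec (CommRingCat.of R))) ⇑(pointCycle x.1) := fun x => by
    refine ⟨PUnit, fun _ => η, fun _ => (Spec (CommRingCat.of R)).residue η (tsp R η (g x)),
      fun _ => by rw [← hδ x.1 (hPη x), hPe], fun _ h0 => ?_, fun _ => trivial, locallyFinite_of_finite _, fun y => ?_⟩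
    · have hmem : tsp R η (g x) ∈ IsLocalRing.maximalIdeal _ := (IsLocalRing.residue_eq_zero_iff _).1 h0
      haveI := isLocalization_tsp R η
      letI := (tsp R η).toAlgebra
      have h1 := (IsLocalization.AtPrime.to_map_mem_maximal_iff _ (η : PrimeSpectrum R).asIdeal (g x)).1 hmem
      rw [hηI] at h1
      exact hg0 x h1
    · rw [finsum_eq_single _ PUnit.unit fun i hi => absurd rfl hi]
      by_cases hy : y = η
      · subst hy
        rw [CycLib.divFun_eq_zero_of_delta δ _ (show δ η + 1 ≠ δ η by omega), pointCycle_apply, if_neg (hPη x).symm]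
      · exact (divFun_tsp R hd hηI (hη y) (hδ y hy) (hg0 x) (hg x)).symm
  refine ratEquivZero (T := Set.univ) (congr (sum hd (fun x : P => α x.1) (fun x => ⇑(pointCycle x.1))
    (fun _ => Set.univ) (fun _ => le_rfl) hG fun y => ⟨Set.univ, isOpen_univ, trivial,
      ((finite_support_inter_compact α isCompact_univ).preimage Subtype.val_injective.injOn).subset
        fun z hz => ⟨trivial, hz.2⟩⟩) fun y => ?_)
  by_cases hy : α y = 0
  · rw [hy, finsum_eq_zero_of_forall_eq_zero]
    intro z
    rw [pointCycle_apply]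
    split_ifs with h
    · subst h; exact absurd hy z.2
    · simp
  · rw [finsum_eq_single _ (⟨y, hy⟩ : P) fun z hz => by
      rw [pointCycle_apply, if_neg fun h => hz (Subtype.ext h.symm), mul_zero]]
    rw [pointCycle_apply, if_pos rfl, mul_one]

theorem rd_genericPoint {X Y : Scheme.{u}} (f : X ⟶ Y) [LocallyOfFiniteType f] (η : Y) [IsIntegral (f.fiber η)]
    {L : Type u} [Field L] {σ : Type u} [Finite σ] (e : f.fiber η ≅ Aff L σ) :
    FibDim.rd f (f.fiberι η (genericPoint (f.fiber η))) = Nat.card σ := by
  rw [← FibDim.deg_fiber f η]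
  have h := VarDim.topologicalKrullDim_closure_singleton (k := Y.residueField η) (f.fiberToSpecResidueField η)
    (genericPoint (f.fiber η))
  rw [(genericPoint_spec (f.fiber η)).def, IsHomeomorph.topologicalKrullDim_eq _ (Homeomorph.Set.univ _).isHomeomorph,
    IsHomeomorph.topologicalKrullDim_eq _ e.hom.homeomorph.isHomeomorph] at h
  change topologicalKrullDim (PrimeSpectrum (MvPolynomial σ L)) = _ at h
  rw [PrimeSpectrum.topologicalKrullDim_eq_ringKrullDim, MvPolynomial.ringKrullDim_of_isNoetherianRing,
    ringKrullDim_eq_zero_of_field, zero_add] at h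
  exact (by exact_mod_cast h : Nat.card σ = _).symm

end Groth.Agent.H9A1
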