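import Groth.Agent.H9A1.Affine
import Groth.Agent.H23.ChowDesc
import Mathlib.Algebra.MvPolynomial.Equiv
import Mathlib.AlgebraicGeometry.Morphisms.Flat

/-! Surjectivity of pull-back along bundles of affine spaces. -/

set_option autoImplicit false
set_option linter.style.haveILetI false
set_option backward.isDefEq.respectTransparency false
set_option backward.isDefEq.respectTransparency.types false

universe u

open AlgebraicGeometry CategoryTheory CategoryTheory.Limits TopologicalSpace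

namespace Groth.Agent.H9A1

open Groth.Agent H23.RatOn

variable {X Y : Scheme.{u}}

/-- The fibre of a relative affine space. -/
noncomputable def fiberAffineIso (σ : Type u) (S : Scheme.{u}) (η : S) :
    (𝔸(σ; S) ↘ S).fiber η ≅ Aff (S.residueField η) σ :=
  (AffineSpace.isPullback_map (n := σ) (S.fromSpecResidueField η)).isoPullback.symm ≪≫
    AffineSpace.SpecIso σ _

/-- The fibre of a locally trivial bundle. -/
noncomputable def fiberBundleIso (f : X ⟶ Y) (σ : Type u) (U : Y.Opens) (η : Y) (hη : η ∈ U)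
    (e : (↑(f ⁻¹ᵁ U) : Scheme.{u}) ≅ 𝔸(σ; (↑U : Scheme.{u})))
    (he : e.hom ≫ (𝔸(σ; (↑U : Scheme.{u})) ↘ (↑U : Scheme.{u})) = f ∣_ U) :
    f.fiber η ≅ Aff (Y.residueField η) σ :=
  let g := IsOpenImmersion.lift U.ι (Y.fromSpecResidueField η) (by
    rw [Scheme.range_fromSpecResidueField, Scheme.Opens.range_ι]
    exact Set.singleton_subset_iff.2 hη)
  have h₁ : IsPullback (e.inv ≫ (f ⁻¹ᵁ U).ι) (𝔸(σ; (↑U : Scheme.{u})) ↘ (↑U : Scheme.{u})) f U.ι :=
    (isPullback_morphismRestrict f U).flip.of_iso e (Iso.refl _) (Iso.refl _) (Iso.refl _)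
      (by simp) (by simp [he]) (by simp) (by simp)
  have h₂ : IsPullback (AffineSpace.map σ g ≫ e.inv ≫ (f ⁻¹ᵁ U).ι)
      (𝔸(σ; Spec (Y.residueField η)) ↘ Spec (Y.residueField η)) f (Y.fromSpecResidueField η) := by
    have h := (AffineSpace.isPullback_map (n := σ) g).paste_horiz h₁
    rwa [IsOpenImmersion.lift_fac] at h
  h₂.isoPullback.symm ≪≫ AffineSpace.SpecIso σ _

theorem surj_bundle [IsLocallyNoetherian X] [IsLocallyNoetherian Y] (f : X ⟶ Y) [QuasiCompact f]
    [LocallyOfFiniteType f] {δX : X → ℤ} {δY : Y → ℤ} (hdX : Cyc.IsDimFun X δX) (hdY : Cyc.IsDimFun Y δY)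
    (hδ : Cyc.DeltaCompat f δX δY) (σ : Type u) [Finite σ]
    (he : ∀ η, Nonempty (f.fiber η ≅ Aff (Y.residueField η) σ)) (hT : ∀ (L : Type u) [Field L], Triv (Aff L σ))
    {k : ℤ} (β : AlgebraicCycle X ℤ) (hβ : β ∈ Cyc.Zk X δX (k + Nat.card σ)) :
    ∃ (α : AlgebraicCycle Y ℤ) (β' : AlgebraicCycle X ℤ), α ∈ Cyc.Zk Y δY k ∧
      ⇑β' = Cyc.pullFun f δX δY (Nat.card σ) ⇑α ∧ Cyc.RatEquiv δX (k + Nat.card σ) β β' := by
  haveI : ∀ η, Nonempty (f.fiber η) := fun η =>
    ⟨(he η).some.inv (genericPoint (Aff (Y.residueField η) σ))⟩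
  have hint : ∀ η, IsIntegral (f.fiber η) := fun η => isIntegral_of_isOpenImmersion (he η).some.hom
  have hn : ∀ η, IsLocallyNoetherian (f.fiber η) := fun η => isLocallyNoetherian_of_isOpenImmersion (he η).some.hom
  have hgen : ∀ η, haveI := hint η;
      δX (f.fiberι η (genericPoint (f.fiber η))) = δY η + (Nat.card σ : ℤ) := fun η => by
    haveI := hint η
    rw [CycLib.deltaCompat_eq f hδ, FlatDvr.fiberι_apply_eq, rd_genericPoint f η (he η).some]
  have hcore : FibreCore f δX δY (Nat.card σ) := fibreCore_of_fiber f hn fun η e hlt α hα => by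
    haveI := hint η
    exact triv_of_iso (he η).some.symm (hT _) _ (isDimFun_fiber f η hdX) e
      (show e < δX (f.fiberι η (genericPoint (f.fiber η))) by rw [hgen]; exact hlt) α hα
  obtain ⟨α, hα, hz⟩ := surj f hdX hdY hint hgen hcore β hβ (Nat.card σ) fun x hx => by
    have h1 : δX x = k + Nat.card σ := not_not.1 fun h => hx (hβ x h)
    rw [CycLib.deltaCompat_eq f hδ] at h1
    omega
  have hz' := hz
  obtain ⟨ι, z, g, hzd, hg, -, hloc, hval⟩ := hz'
  refine ⟨α, β - CycLib.sumDiv hdX z g hg hloc, hα, funext fun x => ?_, ratEquiv (T := Set.univ) (congr hz fun x => ?_)⟩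
  all_goals
    have h := hval x
    simp only [Function.locallyFinsuppWithin.coe_sub, Pi.sub_apply, CycLib.sumDiv_apply] at h ⊢
    omega

theorem deltaCompat_shift (f : X ⟶ Y) [LocallyOfFiniteType f] (δY : Y → ℤ) :
    Cyc.DeltaCompat f (fun x => δY (f x) + FibDim.rd f x) δY := H23.ChowDesc.deltaCompat_rd f _

theorem flat_over (B : Type u) [CommRing B] (τ : Type u) :
    Flat (𝔸(τ; Spec (CommRingCat.of B)) ↘ Spec (CommRingCat.of B)) := by
  rw [← Iso.hom_inv_id_assoc (AffineSpace.SpecIso τ (CommRingCat.of B))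
    (𝔸(τ; Spec (CommRingCat.of B)) ↘ Spec (CommRingCat.of B)), AffineSpace.SpecIso_inv_over]
  haveI hfl : Flat (Spec.map (CommRingCat.ofHom (MvPolynomial.C : B →+* MvPolynomial τ B))) := by
    rw [HasRingHomProperty.Spec_iff (P := @Flat)]
    exact RingHom.flat_algebraMap_iff.2 (inferInstance : Module.Flat B (MvPolynomial τ B))
  exact MorphismProperty.comp_mem _ _ _ inferInstance hfl

theorem triv_affineSpace_step (σ : Type u) [Finite σ] (hσ : ∀ (L : Type u) [Field L], Triv (Aff L σ))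
    (h1 : ∀ (L : Type u) [Field L], Triv (Aff L PUnit.{u + 1})) (L : Type u) [Field L] :
    Triv 𝔸(PUnit.{u + 1}; Aff L σ) := by
  intro δ hd e he α hα
  let p := 𝔸(PUnit.{u + 1}; (Aff L σ)) ↘ (Aff L σ)
  haveI : IsLocallyNoetherian 𝔸(PUnit.{u + 1}; (Aff L σ)) := LocallyOfFiniteType.isLocallyNoetherian p
  haveI : Flat p := flat_over (MvPolynomial σ L) PUnit.{u + 1}
  let q : (Aff L σ) ⟶ Spec (CommRingCat.of L) := Spec.map (CommRingCat.ofHom MvPolynomial.C)
  haveI : LocallyOfFiniteType q := (HasRingHomProperty.Spec_iff (P := @LocallyOfFiniteType)).2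
    (RingHom.finiteType_algebraMap.2 inferInstance)
  let c : ℤ := δ (genericPoint 𝔸(PUnit.{u + 1}; (Aff L σ))) - 1 - FibDim.rd q (genericPoint (Aff L σ))
  let δZ : (Aff L σ) → ℤ := fun z => c + FibDim.rd q z
  have hS : Cyc.IsSetup (Spec (CommRingCat.of L)) (fun _ => c) := by
    have h := CycLib.isSetup_spec_field L
    exact ⟨h.1, h.2.1, fun x y hxy hne => absurd (@Subsingleton.elim _ (FibDim.subsingleton_spec_field L) x y) hne⟩
  have hZ' : Cyc.IsSetup (Aff L σ) δZ := H23.SetupLFT.isSetup q hS (deltaCompat_shift q fun _ => c)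
  let δ' : 𝔸(PUnit.{u + 1}; (Aff L σ)) → ℤ := fun x => δZ (p x) + FibDim.rd p x
  have hX' : Cyc.IsSetup 𝔸(PUnit.{u + 1}; (Aff L σ)) δ' := H23.SetupLFT.isSetup p hZ' (deltaCompat_shift p δZ)
  have hfib : ∀ η, Nonempty (p.fiber η ≅ Aff (Scheme.residueField (Aff L σ) η) PUnit.{u + 1}) := fun η =>
    ⟨fiberAffineIso _ (Aff L σ) η⟩
  haveI : ∀ η, Nonempty (p.fiber η) := fun η => ⟨(hfib η).some.inv (genericPoint _)⟩
  haveI : ∀ η, IsIntegral (p.fiber η) := fun η => isIntegral_of_isOpenImmersion (hfib η).some.hom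
  have hgenX : p.fiberι (genericPoint (Aff L σ)) (genericPoint (p.fiber (genericPoint (Aff L σ)))) = genericPoint 𝔸(PUnit.{u + 1}; (Aff L σ)) := by
    set ζ := genericPoint 𝔸(PUnit.{u + 1}; (Aff L σ))
    have hpζ : p ζ = genericPoint (Aff L σ) := by
      obtain ⟨x, hx⟩ := p.surjective (genericPoint (Aff L σ))
      exact ((hx ▸ (genericPoint_specializes x).map p.continuous).antisymm (genericPoint_specializes _)).eq
    obtain ⟨w, hw⟩ : ζ ∈ Set.range (p.fiberι (genericPoint (Aff L σ))) := by rw [Scheme.Hom.range_fiberι]; exact hpζ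
    have h := (genericPoint_specializes w).map (p.fiberι (genericPoint (Aff L σ))).continuous
    rw [hw] at h
    exact (h.antisymm (genericPoint_specializes _)).eq
  have hδ' : ∀ x, δ' x = δ x := dimFun_unique hX'.2.2 hd (by
    rw [← hgenX]
    show δZ (p _) + (FibDim.rd p _ : ℤ) = _
    rw [FlatDvr.fiberι_apply_eq, rd_genericPoint p _ (hfib _).some, hgenX]
    show c + (FibDim.rd q (genericPoint (Aff L σ)) : ℤ) + ((Nat.card PUnit.{u + 1} : ℕ) : ℤ) = _
    simp only [Nat.card_unique, Nat.cast_one, c]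
    ring)
  have hgenδ : δ (genericPoint 𝔸(PUnit.{u + 1}; (Aff L σ))) = δZ (genericPoint (Aff L σ)) + 1 := by simp only [δZ, c]; ring
  rw [← funext hδ'] at hα ⊢
  replace hd : Cyc.IsDimFun _ δ' := hX'.2.2
  obtain ⟨a, β', ha, hβ', hrat⟩ := surj_bundle p hd hZ'.2.2 (deltaCompat_shift p δZ) PUnit.{u + 1} hfib h1
    (k := e - 1) α (by simpa using hα)
  have hcard : ((Nat.card PUnit.{u + 1} : ℕ) : ℤ) = 1 := by simp
  rw [hcard] at hβ' hrat
  have ha0 := hσ L δZ hZ'.2.2 (e - 1) (show e - 1 < δZ (genericPoint (Aff L σ)) by omega) a ha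
  have hshift : H23.FlatShift.HasShift p δ' δZ 1 := fun x hx => by
    obtain ⟨w, hw⟩ : x ∈ Set.range (p.fiberι (p x)) := by rw [Scheme.Hom.range_fiberι]; rfl
    have h := (genericPoint_specializes w).map (p.fiberι (p x)).continuous
    rw [hw] at h
    have hxg := hx _ (FlatDvr.fiberι_apply_eq p _) h
    show δZ (p x) + (FibDim.rd p x : ℤ) = _
    rw [show FibDim.rd p x = 1 from by rw [← hxg, rd_genericPoint p _ (hfib _).some, Nat.card_unique]]
    rfl
  have hβ0 := H23.DivPull.ratEquivZero_pull p hshift hZ'.2.2 hd ha0 β' hβ'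
  rw [sub_add_cancel] at hβ0 hrat
  exact ratEquivZero (T := Set.univ) (congr (add hd (of_ratEquivZero hrat) (of_ratEquivZero hβ0) 1 1) fun x => by
    simp [Function.locallyFinsuppWithin.coe_sub])

/-- The isomorphism of spectra of a ring equivalence. -/
noncomputable def specIso {A B : Type u} [CommRing A] [CommRing B] (e : A ≃+* B) :
    Spec (CommRingCat.of B) ≅ Spec (CommRingCat.of A) := Scheme.Spec.mapIso e.toCommRingCatIso.op

/-- A polynomial ring in one variable. -/
noncomputable def polyEquiv (B : Type u) [CommRing B] : MvPolynomial PUnit.{u + 1} B ≃+* Polynomial B :=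
  (MvPolynomial.pUnitAlgEquiv.{u, u} B).toRingEquiv

/-- Adjoining a variable. -/
noncomputable def optIso (L : Type u) [CommRing L] (α : Type u) :
    Spec (CommRingCat.of (MvPolynomial PUnit.{u + 1} (MvPolynomial α L))) ≅
      Spec (CommRingCat.of (MvPolynomial (Option α) L)) :=
  specIso ((MvPolynomial.optionEquivLeft L α).toRingEquiv.trans (polyEquiv (MvPolynomial α L)).symm)

theorem triv_aff (σ : Type u) [Finite σ] : ∀ (L : Type u) [Field L], Triv (Aff L σ) := by
  have h1 : ∀ (L : Type u) [Field L], Triv (Aff L PUnit.{u + 1}) := fun L _ =>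
    triv_of_iso (W := Spec (CommRingCat.of (Polynomial L)))
      (specIso (polyEquiv L)) (triv_pid _)
  suffices H : Finite σ ∧ ∀ (L : Type u) [Field L], Triv (Aff L σ) from H.2
  induction σ using Finite.induction_empty_option with
  | @of_equiv a b e h =>
    obtain ⟨ha, h⟩ := h
    refine ⟨Finite.of_equiv a e, ?_⟩
    intro L _
    haveI : IsNoetherianRing (MvPolynomial a L) := MvPolynomial.isNoetherianRing
    haveI : IsLocallyNoetherian (Aff L a) := inferInstance
    exact triv_of_iso (W := Aff L a) (W' := Aff L b)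
      (specIso (MvPolynomial.renameEquiv L e).symm.toRingEquiv) (h L)
  | h_empty =>
    refine ⟨inferInstance, ?_⟩
    intro L _
    haveI : Subsingleton (Spec (CommRingCat.of L)) := FibDim.subsingleton_spec_field L
    exact triv_of_iso (W := Spec (CommRingCat.of L))
      (specIso (MvPolynomial.isEmptyAlgEquiv L PEmpty.{u + 1}).toRingEquiv) triv_of_subsingleton
  | @h_option α _ h =>
    obtain ⟨hα, h⟩ := h
    refine ⟨inferInstance, ?_⟩
    intro L _
    haveI : IsLocallyNoetherian 𝔸(PUnit.{u + 1}; Aff L α) :=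
      LocallyOfFiniteType.isLocallyNoetherian (𝔸(PUnit.{u + 1}; Aff L α) ↘ Aff L α)
    exact triv_of_iso (AffineSpace.SpecIso PUnit.{u + 1} (CommRingCat.of (MvPolynomial α L)) ≪≫ optIso L α)
      (triv_affineSpace_step α h h1 L)

end Groth.Agent.H9A1
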