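import Groth.Agent.H23.RatOn
import Groth.Agent.H9Cyc.LimCyc
import Groth.Agent.FlatDvr.FibreStalk
import Mathlib.AlgebraicGeometry.Properties

/-! Cycles on the fibres of a morphism. -/

set_option autoImplicit false
set_option linter.style.haveILetI false
set_option backward.isDefEq.respectTransparency false
set_option backward.isDefEq.respectTransparency.types false

universe u

open AlgebraicGeometry CategoryTheory TopologicalSpace

namespace Groth.Agent.H9A1

open Groth.Agent

variable {X Y : Scheme.{u}} {δ : X → ℤ}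

/-- A locally finite family on a quasi-compact scheme is finite. -/
theorem finite_of_locallyFinite [CompactSpace X] {ι : Type*} (ξ : ι → X)
    (hloc : ∀ x : X, ∃ U : Set X, IsOpen U ∧ x ∈ U ∧ {i | (closure {ξ i} ∩ U).Nonempty}.Finite) : Finite ι := by
  choose U hUo hxU hfin using hloc
  obtain ⟨S, hS⟩ := (isCompact_univ (X := X)).elim_finite_subcover U hUo
    fun x _ => Set.mem_iUnion.2 ⟨x, hxU x⟩
  refine Set.finite_univ_iff.1 ((S.finite_toSet.biUnion fun x _ => hfin x).subset fun i _ => ?_)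
  obtain ⟨x, hx, hi⟩ := Set.mem_iUnion₂.1 (hS (Set.mem_univ (ξ i)))
  exact Set.mem_biUnion hx ⟨ξ i, subset_closure rfl, hi⟩

/-- A finite family is locally finite. -/
theorem locallyFinite_of_finite {ι : Type*} [Finite ι] (ξ : ι → X) :
    ∀ x : X, ∃ U : Set X, IsOpen U ∧ x ∈ U ∧ {i | (closure {ξ i} ∩ U).Nonempty}.Finite :=
  fun _ => ⟨Set.univ, isOpen_univ, trivial, Set.toFinite _⟩

theorem finite_support_inter_compact (c : AlgebraicCycle X ℤ) {K : Set X} (hK : IsCompact K) :
    {x | x ∈ K ∧ c x ≠ 0}.Finite := by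
  have h : ∀ x : X, ∃ V : X.Opens, x ∈ V ∧ IsAffineOpen V := fun x => by
    obtain ⟨V, hV, hx, -⟩ := exists_isAffineOpen_mem_and_subset (x := x) (U := ⊤) trivial
    exact ⟨V, hx, hV⟩
  choose V hxV hV using h
  obtain ⟨S, hS⟩ := hK.elim_finite_subcover (fun x => (V x : Set X)) (fun x => (V x).2)
    fun x _ => Set.mem_iUnion.2 ⟨x, hxV x⟩
  refine (S.finite_toSet.biUnion fun x _ => CycLib.finite_support_inter_affine c (hV x)).subset ?_
  rintro z ⟨hz, hcz⟩
  obtain ⟨x, hx, hzx⟩ := Set.mem_iUnion₂.1 (hS hz)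
  exact Set.mem_biUnion hx ⟨hzx, hcz⟩

/-- The cycle of a point. -/
noncomputable def pointCycle (ξ : X) : AlgebraicCycle X ℤ where
  toFun x := by classical exact if x = ξ then 1 else 0
  supportWithinDomain' := fun _ _ => trivial
  supportLocallyFiniteWithinDomain' := fun _ _ => ⟨Set.univ, Filter.univ_mem, (Set.finite_singleton ξ).subset
    fun x hx => by
      by_contra h
      exact hx.2 (by simp [Set.mem_singleton_iff.not.1 h])⟩

open scoped Classical in
theorem pointCycle_apply (ξ x : X) : pointCycle ξ x = if x = ξ then 1 else 0 := rfl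

/-- Constant shifts of the dimension function. -/
theorem isDimFun_add (hd : Cyc.IsDimFun X δ) (c : ℤ) : Cyc.IsDimFun X fun x => δ x + c := fun x y h hne => by
  obtain ⟨h1, h2⟩ := hd x y h hne
  exact ⟨show δ y + c < δ x + c by omega, fun h3 => show δ x + c = δ y + c + 1 by have := h2 h3; omega⟩

/-- The induced dimension function of a fibre. -/
theorem isDimFun_fiber (p : X ⟶ Y) (η : Y) (hd : Cyc.IsDimFun X δ) :
    Cyc.IsDimFun (p.fiber η) fun z => δ (p.fiberι η z) := by
  intro z z' h hne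
  obtain ⟨h1, h2⟩ := hd _ _ (h.map (p.fiberι η).continuous) fun e => hne ((p.fiberι η).isEmbedding.injective e)
  refine ⟨h1, fun himm => h2 fun w hw hw' => ?_⟩
  have hz : p (p.fiberι η z) = η := FlatDvr.fiberι_apply_eq p z
  have hz' : p (p.fiberι η z') = η := FlatDvr.fiberι_apply_eq p z'
  have hpw : p w = η := ((hz ▸ hw.map p.continuous).antisymm (hz' ▸ hw'.map p.continuous)).eq.symm
  obtain ⟨v, rfl⟩ : w ∈ Set.range (p.fiberι η) := by rw [Scheme.Hom.range_fiberι]; exact hpw
  exact (himm v ((p.fiberι η).isEmbedding.isInducing.specializes_iff.1 hw)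
    ((p.fiberι η).isEmbedding.isInducing.specializes_iff.1 hw')).imp (congrArg _) (congrArg _)

theorem length_generic_fiber (p : X ⟶ Y) (η : Y) [IsIntegral (p.fiber η)] :
    Module.length (X.presheaf.stalk (p.fiberι η (genericPoint (p.fiber η))))
      (X.presheaf.stalk (p.fiberι η (genericPoint (p.fiber η))) ⧸ Ideal.map
        (p.stalkMap (p.fiberι η (genericPoint (p.fiber η)))).hom
        (IsLocalRing.maximalIdeal (Y.presheaf.stalk (p (p.fiberι η (genericPoint (p.fiber η))))))) = 1 := by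
  rw [← FlatDvr.ker_stalkMap_fiberι]
  haveI : (RingHom.ker ((p.fiberι η).stalkMap (genericPoint (p.fiber η))).hom).IsMaximal :=
    RingHom.ker_isMaximal_of_surjective (K := (p.fiber η).functionField) _ ((p.fiberι η).stalkMap_surjective _)
  haveI : IsSimpleModule (X.presheaf.stalk (p.fiberι η (genericPoint (p.fiber η))))
      (X.presheaf.stalk (p.fiberι η (genericPoint (p.fiber η))) ⧸
        RingHom.ker ((p.fiberι η).stalkMap (genericPoint (p.fiber η))).hom) :=
    isSimpleModule_iff_isCoatom.2 (Ideal.isMaximal_def.1 ‹_›)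
  exact Module.length_eq_one _ _

/-- Every point below the top dimension of its fibre is, on that fibre, a combination of principal divisors. -/
def FibreCore (p : X ⟶ Y) (δ : X → ℤ) (δY : Y → ℤ) (r : ℤ) : Prop :=
  ∀ ξ : X, δ ξ < δY (p ξ) + r → ∃ (ι : Type u) (_ : Finite ι) (ζ : ι → X) (f : (i : ι) → X.residueField (ζ i)),
    (∀ i, δ (ζ i) = δ ξ + 1) ∧ (∀ i, p (ζ i) = p ξ) ∧ (∀ i, f i ≠ 0) ∧
    ∀ x, p x = p ξ → ∑ᶠ i, Cyc.divFun δ (ζ i) (f i) x = pointCycle ξ x

theorem fibreCore_of_fiber [IsLocallyNoetherian X] (p : X ⟶ Y) [QuasiCompact p] {δY : Y → ℤ} {r : ℤ}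
    (hn : ∀ η, IsLocallyNoetherian (p.fiber η))
    (h : ∀ η, ∀ e < δY η + r, ∀ α ∈ Cyc.Zk (p.fiber η) (fun z => δ (p.fiberι η z)) e,
      Cyc.RatEquivZero (fun z => δ (p.fiberι η z)) e α) :
    FibreCore p δ δY r := by
  classical
  intro ξ hξ
  obtain ⟨w, hw⟩ : ξ ∈ Set.range (p.fiberι (p ξ)) := by rw [Scheme.Hom.range_fiberι]; rfl
  haveI := hn (p ξ)
  obtain ⟨ι, ζ, g, hζ, hg, hloc, hsum⟩ := h (p ξ) (δ ξ) hξ (pointCycle w) fun z hz => by
    rw [pointCycle_apply, if_neg]
    rintro rfl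
    exact hz (congrArg δ hw)
  haveI := finite_of_locallyFinite ζ hloc
  choose f hf using fun i => (CycLib.residueFieldMap_bijective (p.fiberι (p ξ)) (ζ i)).2 (g i)
  refine ⟨ι, inferInstance, fun i => p.fiberι (p ξ) (ζ i), f, hζ, fun i => FlatDvr.fiberι_apply_eq p _,
    fun i h0 => hg i (by rw [← hf i, h0, map_zero]), fun x hx => ?_⟩
  obtain ⟨z, rfl⟩ : x ∈ Set.range (p.fiberι (p ξ)) := by rw [Scheme.Hom.range_fiberι]; exact hx
  have : pointCycle ξ (p.fiberι (p ξ) z) = pointCycle w z := by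
    rw [pointCycle_apply, pointCycle_apply]
    exact if_congr ⟨fun e => (p.fiberι (p ξ)).isEmbedding.injective (e.trans hw.symm), fun e => e ▸ hw⟩ rfl rfl
  rw [this, hsum]
  exact finsum_congr fun i => by
    rw [← hf i, CycLib.divFun_preimmersion (p.fiberι (p ξ)) 0 fun z => (add_zero _).symm]

end Groth.Agent.H9A1
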