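import Groth.Agent.H9A1.Bundle
import Mathlib.AlgebraicGeometry.Morphisms.Affine

/-! Pull-back along a bundle of affine spaces is surjective on cycles modulo rational equivalence. -/

set_option autoImplicit false
set_option linter.style.haveILetI false
set_option backward.isDefEq.respectTransparency false
set_option backward.isDefEq.respectTransparency.types false

universe u

open AlgebraicGeometry CategoryTheory CategoryTheory.Limits TopologicalSpace

namespace Groth.Agent.H9A1

open Groth.Agent H23.RatOn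

theorem quasiCompact_bundle {X Y : Scheme.{u}} (f : X ⟶ Y) (σ : Type u)
    (hloc : ∀ y : Y, ∃ U : Y.Opens, y ∈ U ∧ ∃ e : (↑(f ⁻¹ᵁ U) : Scheme.{u}) ≅ 𝔸(σ; (↑U : Scheme.{u})),
      e.hom ≫ (𝔸(σ; (↑U : Scheme.{u})) ↘ (↑U : Scheme.{u})) = f ∣_ U) : QuasiCompact f := by
  choose U hU e he using hloc
  haveI : IsAffineHom f := IsZariskiLocalAtTarget.of_iSup_eq_top U
    (top_le_iff.1 fun y _ => TopologicalSpace.Opens.mem_iSup.2 ⟨y, hU y⟩) fun y => by
      rw [← he y]
      infer_instance
  infer_instance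

theorem delta_genericPoint_aff (K : Type u) [Field K] (σ : Type u) [Finite σ] {δ : Aff K σ → ℤ}
    (hδ : Cyc.DeltaCompat (Spec.map (CommRingCat.ofHom (algebraMap K (MvPolynomial σ K)))) δ (fun _ => 0)) :
    δ (genericPoint (Aff K σ)) = Nat.card σ := by
  let q := Spec.map (CommRingCat.ofHom (algebraMap K (MvPolynomial σ K)))
  haveI : LocallyOfFiniteType q := (HasRingHomProperty.Spec_iff (P := @LocallyOfFiniteType)).2
    (RingHom.finiteType_algebraMap.2 inferInstance)
  have h := VarDim.topologicalKrullDim_closure_singleton (k := K) q (genericPoint (Aff K σ))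
  rw [(genericPoint_spec (Aff K σ)).def,
    IsHomeomorph.topologicalKrullDim_eq _ (Homeomorph.Set.univ _).isHomeomorph] at h
  change topologicalKrullDim (PrimeSpectrum (MvPolynomial σ K)) = _ at h
  rw [PrimeSpectrum.topologicalKrullDim_eq_ringKrullDim, MvPolynomial.ringKrullDim_of_isNoetherianRing,
    ringKrullDim_eq_zero_of_field, zero_add] at h
  have h1 : (FibDim.rd q (genericPoint (Aff K σ)) : Cardinal) = VarDim.deg (k := K) q (genericPoint (Aff K σ)) := by
    rw [FibDim.rd_eq_rdeg, VarDim.deg_eq_tdeg, VarDim.tdeg_eq_rdeg]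
  have h2 : FibDim.rd q (genericPoint (Aff K σ)) = Nat.card σ := by
    rw [Nat.cast_injective h1]
    exact (by exact_mod_cast h : Nat.card σ = _).symm
  rw [CycLib.deltaCompat_eq q hδ, h2, zero_add]

theorem affine_space_cycles (K : Type u) [Field K] (n : ℕ) (δ : Spec (CommRingCat.of (MvPolynomial (Fin n) K)) → ℤ)
    (hδ : Cyc.DeltaCompat (Spec.map (CommRingCat.ofHom (algebraMap K (MvPolynomial (Fin n) K)))) δ (fun _ => 0))
    {k : ℤ} (hk : k ≠ n) (α : AlgebraicCycle (Spec (CommRingCat.of (MvPolynomial (Fin n) K))) ℤ)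
    (hα : α ∈ Cyc.Zk _ δ k) : Cyc.RatEquivZero δ k α := by
  let X := Spec (CommRingCat.of (MvPolynomial (Fin n) K))
  let q := Spec.map (CommRingCat.ofHom (algebraMap K (MvPolynomial (Fin n) K)))
  haveI : LocallyOfFiniteType q := (HasRingHomProperty.Spec_iff (P := @LocallyOfFiniteType)).2
    (RingHom.finiteType_algebraMap.2 inferInstance)
  have hd : Cyc.IsDimFun X δ := CycLib.isDimFun_of_deltaCompat q (CycLib.isSetup_spec_field K) hδ
  let eqv : MvPolynomial (ULift.{u} (Fin n)) K ≃+* MvPolynomial (Fin n) K :=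
    (MvPolynomial.renameEquiv K Equiv.ulift).toRingEquiv
  haveI : IsDomain (MvPolynomial (Fin n) K) := inferInstance
  let e : Spec (CommRingCat.of (MvPolynomial (Fin n) K)) ≅ Aff K (ULift.{u} (Fin n)) := specIso eqv
  have hgen : δ (genericPoint X) = n := by
    let q' := Spec.map (CommRingCat.ofHom (algebraMap K (MvPolynomial (ULift.{u} (Fin n)) K)))
    haveI : LocallyOfFiniteType q' := (HasRingHomProperty.Spec_iff (P := @LocallyOfFiniteType)).2
      (RingHom.finiteType_algebraMap.2 inferInstance)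
    have hq : e.inv ≫ q = q' := by
      show Spec.map _ ≫ Spec.map _ = Spec.map _
      rw [← Spec.map_comp]
      congr 1
      apply CommRingCat.hom_ext
      apply RingHom.ext
      intro c
      exact (MvPolynomial.renameEquiv K Equiv.ulift).symm.commutes c
    have h := delta_genericPoint_aff K (ULift.{u} (Fin n)) (δ := fun z => δ (e.inv z)) (fun z => by
      refine ⟨FibDim.rd q' z, ?_, ?_⟩
      · exact (VarDim.rdeg.eq_def q' z).symm.trans (FibDim.rd_eq_rdeg q' z).symm
      · show δ (e.inv z) = _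
        rw [CycLib.deltaCompat_eq q hδ, ← hq, FibDim.rd_comp]
        have : FibDim.rd e.inv z = 0 := by
          have h0 := VarDim.rdeg_preimmersion e.inv z
          rw [← FibDim.rd_eq_rdeg] at h0
          exact_mod_cast h0
        rw [this]
        simp)
    rw [← map_genericPoint_iso e.symm]
    simpa using h
  rcases lt_or_gt_of_ne hk with hlt | hgt
  · exact triv_of_iso e.symm (triv_aff _ K) δ hd k (by rw [hgen]; exact hlt) α hα
  · exact ratEquivZero (T := Set.univ) (congr (zero Set.univ) fun x => hα x (by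
      have := CycLib.delta_le hd (genericPoint_specializes x)
      rw [hgen] at this
      omega))

theorem bundle_surjective {X Y : Scheme.{u}} {δX : X → ℤ} {δY : Y → ℤ} (hX : Cyc.IsSetup X δX) (hY : Cyc.IsSetup Y δY)
    (f : X ⟶ Y) [LocallyOfFiniteType f] (r : ℕ) (hδ : Cyc.DeltaCompat f δX δY)
    (hloc : ∀ y : Y, ∃ U : Y.Opens, y ∈ U ∧ ∃ e : (↑(f ⁻¹ᵁ U) : Scheme.{u}) ≅ 𝔸(ULift.{u} (Fin r); (↑U : Scheme.{u})),
      e.hom ≫ (𝔸(ULift.{u} (Fin r); (↑U : Scheme.{u})) ↘ (↑U : Scheme.{u})) = f ∣_ U)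
    (k : ℤ) (β : AlgebraicCycle X ℤ) (hβ : β ∈ Cyc.Zk X δX (k + r)) :
    ∃ (α : AlgebraicCycle Y ℤ) (β' : AlgebraicCycle X ℤ), α ∈ Cyc.Zk Y δY k ∧
      ⇑β' = Cyc.pullFun f δX δY r ⇑α ∧ Cyc.RatEquiv δX (k + r) β β' := by
  haveI := hX.1
  haveI := hY.1
  haveI := quasiCompact_bundle f _ hloc
  have hcard : ((Nat.card (ULift.{u} (Fin r)) : ℕ) : ℤ) = r := by simp
  have h := surj_bundle f hX.2.2 hY.2.2 hδ (ULift.{u} (Fin r)) (fun η => by
      obtain ⟨U, hU, e, he⟩ := hloc η
      exact ⟨fiberBundleIso f _ U η hU e he⟩)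
    (fun L _ => triv_aff _ L) (k := k) β (by rw [hcard]; exact hβ)
  rwa [hcard] at h

end Groth.Agent.H9A1
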