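import Groth.Agent.H9A1.Fibre

/-! Every cycle is a flat pull-back modulo rational equivalence, given the fibrewise statement. -/

set_option autoImplicit false
set_option linter.style.haveILetI false
set_option backward.isDefEq.respectTransparency false
set_option backward.isDefEq.respectTransparency.types false

universe u

open AlgebraicGeometry CategoryTheory TopologicalSpace

namespace Groth.Agent.H9A1

open Groth.Agent H23.RatOn

variable {X Y : Scheme.{u}} [IsLocallyNoetherian X] [IsLocallyNoetherian Y] (p : X ⟶ Y) [QuasiCompact p]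
  {δ : X → ℤ} {δY : Y → ℤ} {r : ℤ} (hd : Cyc.IsDimFun X δ) (hdY : Cyc.IsDimFun Y δY)
  (hint : ∀ η, IsIntegral (p.fiber η))
  (hgen : ∀ η, haveI := hint η; δ (p.fiberι η (genericPoint (p.fiber η))) = δY η + r)

include hd hgen in
theorem le_add (x : X) : δ x ≤ δY (p x) + r := by
  obtain ⟨w, hw⟩ : x ∈ Set.range (p.fiberι (p x)) := by rw [Scheme.Hom.range_fiberι]; rfl
  haveI := hint (p x)
  have := CycLib.delta_le hd ((genericPoint_specializes w).map (p.fiberι (p x)).continuous)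
  rw [hw, hgen] at this
  exact this

include hd hgen in
theorem eq_gen {x : X} (hx : δ x = δY (p x) + r) :
    haveI := hint (p x); p.fiberι (p x) (genericPoint (p.fiber (p x))) = x := by
  obtain ⟨w, hw⟩ : x ∈ Set.range (p.fiberι (p x)) := by rw [Scheme.Hom.range_fiberι]; rfl
  haveI := hint (p x)
  have hs := (genericPoint_specializes w).map (p.fiberι (p x)).continuous
  rw [hw] at hs
  refine CycLib.eq_of_delta_le hd hs ?_
  rw [hgen, hx]

include hd hgen in
theorem surj_bot {k : ℤ} (β : AlgebraicCycle X ℤ) (hβ : β ∈ Cyc.Zk X δ (k + r))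
    (hle : ∀ x, β x ≠ 0 → δY (p x) ≤ k) :
    ∃ α : AlgebraicCycle Y ℤ, α ∈ Cyc.Zk Y δY k ∧ ∀ x, β x = Cyc.pullFun p δ δY r ⇑α x := by
  classical
  let γ : Y → X := fun η => haveI := hint η; p.fiberι η (genericPoint (p.fiber η))
  have hγ : ∀ η, p (γ η) = η := fun η => FlatDvr.fiberι_apply_eq p _
  let α : AlgebraicCycle Y ℤ :=
    { toFun := fun η => if δY η = k then β (γ η) else 0
      supportWithinDomain' := fun _ _ => trivial
      supportLocallyFiniteWithinDomain' := fun η _ => by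
        obtain ⟨V, hV, hηV, -⟩ := exists_isAffineOpen_mem_and_subset (x := η) (U := ⊤) trivial
        refine ⟨V, V.2.mem_nhds hηV, ((finite_support_inter_compact β (p.isCompact_preimage hV.isCompact)).image p).subset ?_⟩
        rintro a ⟨haV, ha⟩
        rw [Function.mem_support] at ha
        exact ⟨γ a, ⟨by show p (γ a) ∈ V; rw [hγ]; exact haV, fun h => ha (by simp [h])⟩, hγ a⟩ }
  refine ⟨α, fun η hη => if_neg hη, fun x => ?_⟩
  by_cases hx : δ x = δY (p x) + r
  · haveI := hint (p x)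
    have hxγ : γ (p x) = x := eq_gen p hd hint hgen hx
    have hlen : Module.length (X.presheaf.stalk x) (X.presheaf.stalk x ⧸ Ideal.map (p.stalkMap x).hom
        (IsLocalRing.maximalIdeal (Y.presheaf.stalk (p x)))) = 1 := by
      have h := length_generic_fiber p (p x)
      rwa [show p.fiberι (p x) (genericPoint (p.fiber (p x))) = x from hxγ] at h
    rw [Cyc.pullFun, if_pos hx, hlen, show α (p x) = if δY (p x) = k then β (γ (p x)) else 0 from rfl, hxγ]
    split_ifs with hk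
    · simp
    · rw [hβ x (by omega)]; simp
  · rw [Cyc.pullFun, if_neg hx]
    by_contra h0
    have h1 := hle x h0
    have h2 := le_add p hd hint hgen x
    have h3 : δ x = k + r := not_not.1 fun h => h0 (hβ x h)
    omega

variable (hcore : FibreCore p δ δY r)

include hd hdY hcore in
theorem step {k d : ℤ} (hkd : k < d) (β : AlgebraicCycle X ℤ) (hβ : β ∈ Cyc.Zk X δ (k + r))
    (hle : ∀ x, β x ≠ 0 → δY (p x) ≤ d) :
    ∃ β' : AlgebraicCycle X ℤ, β' ∈ Cyc.Zk X δ (k + r) ∧ (∀ x, β' x ≠ 0 → δY (p x) < d) ∧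
      ZeroOn δ (k + r) Set.univ fun x => β x - β' x := by
  classical
  let P := {ξ : X // β ξ ≠ 0 ∧ δY (p ξ) = d}
  have hP : ∀ ξ : P, δ ξ.1 = k + r := fun ξ => not_not.1 fun h => ξ.2.1 (hβ _ h)
  choose I hI ζ f hζ hpζ hf hsum using fun ξ : P => hcore ξ.1 (by rw [hP ξ, ξ.2.2]; omega)
  let G : P → X → ℤ := fun ξ x => ∑ᶠ i, Cyc.divFun δ (ζ ξ i) (f ξ i) x
  have hG : ∀ ξ, ZeroOn δ (k + r) {x | p x = p ξ.1} (G ξ) := fun ξ => by
    haveI := hI ξ
    exact ⟨I ξ, ζ ξ, f ξ, fun i => by rw [hζ, hP], hf ξ, hpζ ξ, locallyFinite_of_finite _, fun x => rfl⟩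
  have hsumZ : ZeroOn δ (k + r) Set.univ fun x => ∑ᶠ ξ : P, β ξ.1 * G ξ x := by
    refine sum hd (fun ξ : P => β ξ.1) G (fun ξ => {x | p x = p ξ.1}) (fun _ => Set.subset_univ _) hG fun x => ?_
    obtain ⟨V, hV, hxV, -⟩ := exists_isAffineOpen_mem_and_subset (x := p x) (U := ⊤) trivial
    refine ⟨p ⁻¹' (V : Set Y), (p ⁻¹ᵁ V).2, hxV, ((finite_support_inter_compact β
      (p.isCompact_preimage hV.isCompact)).preimage Subtype.val_injective.injOn).subset ?_⟩
    rintro ξ ⟨⟨y, hy, hyV⟩, -⟩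
    exact ⟨show p ξ.1 ∈ V from (show p y = p ξ.1 from hy) ▸ hyV, ξ.2.1⟩
  obtain ⟨ι, z, g, hz, hg, -, hloc, hval⟩ := hsumZ
  have hsupp : ∀ (ξ : P) x, G ξ x ≠ 0 → δY (p x) ≤ d ∧ (δY (p x) = d → p x = p ξ.1) := fun ξ x hne => by
    obtain ⟨i, hi⟩ : ∃ i, Cyc.divFun δ (ζ ξ i) (f ξ i) x ≠ 0 :=
      not_forall.1 fun h => hne (finsum_eq_zero_of_forall_eq_zero h)
    have hs : p ξ.1 ⤳ p x := hpζ ξ i ▸ (specializes_iff_mem_closure.2 (CycLib.mem_closure_of_divFun_ne_zero hi)).map p.continuous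
    exact ⟨ξ.2.2 ▸ CycLib.delta_le hdY hs, fun e => (CycLib.eq_of_delta_le hdY hs (by rw [ξ.2.2, e])).symm⟩
  have hval' : ∀ x, ∑ᶠ ξ : P, β ξ.1 * G ξ x = ∑ᶠ i, Cyc.divFun δ (z i) (g i) x := hval
  let β' := β - CycLib.sumDiv hd z g hg hloc
  have hβ' : ∀ x, β' x = β x - ∑ᶠ ξ : P, β ξ.1 * G ξ x := fun x => by
    rw [hval' x]
    simp [β', Function.locallyFinsuppWithin.coe_sub]
  refine ⟨β', fun x hx => ?_, fun x hx => ?_, ι, z, g, hz, hg, fun _ => trivial, hloc, fun x => ?_⟩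
  · rw [hβ', hval', hβ x hx, finsum_eq_zero_of_forall_eq_zero, sub_zero]
    intro i
    exact CycLib.divFun_eq_zero_of_delta δ (g i) (by rw [hz]; omega)
  · by_contra hlt
    apply hx
    rw [hβ']
    have hterm : ∀ ξ : P, β ξ.1 * G ξ x = if ξ.1 = x then β x else 0 := fun ξ => by
      split_ifs with e
      · subst e
        rw [show G ξ ξ.1 = pointCycle ξ.1 ξ.1 from hsum ξ ξ.1 rfl, pointCycle_apply, if_pos rfl, mul_one]
      · rcases eq_or_ne (G ξ x) 0 with h0 | h0
        · simp [h0]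
        obtain ⟨h1, h2⟩ := hsupp ξ x h0
        rw [show G ξ x = pointCycle ξ.1 x from hsum ξ x (h2 (by omega)), pointCycle_apply, if_neg (Ne.symm e), mul_zero]
    simp only [hterm]
    by_cases hx0 : β x = 0
    · simp [hx0]
    · let x' : P := ⟨x, hx0, le_antisymm (hle x hx0) (by omega)⟩
      rw [finsum_eq_single _ x' fun ξ hne => if_neg fun e => hne (Subtype.ext e), if_pos rfl, sub_self]
  · show β x - β' x = _
    rw [hβ', hval' x]; ring

include hd hdY hgen hcore in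
theorem surj {k : ℤ} (β : AlgebraicCycle X ℤ) (hβ : β ∈ Cyc.Zk X δ (k + r)) (n : ℕ)
    (hle : ∀ x, β x ≠ 0 → δY (p x) ≤ k + n) :
    ∃ α : AlgebraicCycle Y ℤ, α ∈ Cyc.Zk Y δY k ∧
      ZeroOn δ (k + r) Set.univ fun x => β x - Cyc.pullFun p δ δY r ⇑α x := by
  induction n generalizing β with
  | zero =>
    obtain ⟨α, hα, he⟩ := surj_bot p hd hint hgen β hβ (by simpa using hle)
    exact ⟨α, hα, congr (zero Set.univ) fun x => by rw [he x, sub_self]⟩
  | succ n ih =>
    obtain ⟨β', hβ', hlt, hz⟩ := step p hd hdY hcore (d := k + (n + 1 : ℕ)) (by omega) β hβ hle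
    obtain ⟨α, hα, hz'⟩ := ih β' hβ' fun x hx => by have := hlt x hx; omega
    exact ⟨α, hα, congr (add hd hz hz' 1 1) fun x => by ring⟩

end Groth.Agent.H9A1
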